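import Cfsg.Agent.ChevFieldAut.BigCell
import Cfsg.Agent.FixedField.Basic
import Cfsg.Prelude.Def_ChevAutomorphisms
import Mathlib.Algebra.Ring.Shrink

/-!
The fixed points of a field automorphism of prime order.
-/

set_option autoImplicit false

namespace CfsgLib.ChevFieldAut

open Cfsg.Lie CfsgLib.Chevalley
open scoped MatrixGroups

variable {D : ChevalleyDatum}

section Map

variable {F K : Type*} [Field F] [Field K] (f : K →+* F)

theorem map_X_mem (hD : Good D) {b : Bool} {m : ℕ} {g : GL D.Idx K} (hg : g ∈ uGe hD K b m) :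
    Matrix.GeneralLinearGroup.map f g ∈ uGe hD F b m := by
  have : uGe hD K b m ≤ (uGe hD F b m).comap (Matrix.GeneralLinearGroup.map f) := by
    conv_lhs => rw [uGe]
    rw [Subgroup.closure_le]
    rintro _ ⟨r, hr, hm, t, rfl⟩
    simp only [SetLike.mem_coe, Subgroup.mem_comap, X_map]
    exact X_mem_uGe hD hr hm _
  exact this hg

theorem map_prodFrom (hD : Good D) (b : Bool) (t : ℕ → K) (m k : ℕ) :
    Matrix.GeneralLinearGroup.map f (prodFrom hD b t m k) = prodFrom hD b (fun j => f (t j)) m k := by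
  rw [prodFrom, prodFrom, map_list_prod, List.map_map]
  congr 1
  exact List.map_congr_left fun j _ => X_map hD f _ _

theorem map_torC (c : Fin D.rank → Kˣ) :
    Matrix.GeneralLinearGroup.map f (torC D c) = torC D fun k => Units.map f.toMonoidHom (c k) := by
  apply Units.ext
  rw [coe_map_GL, coe_torC, coe_torC, Matrix.diagonal_map (map_zero f)]
  congr 1
  funext a
  rw [show f ((∏ k : Fin D.rank, c k ^ wt D k a : Kˣ) : K) =
    ((Units.map f.toMonoidHom (∏ k : Fin D.rank, c k ^ wt D k a) : Fˣ) : F) from rfl, map_prod]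
  simp only [map_zpow]

theorem map_nProdW (hW : GoodWeyl D) (L : List (Fin D.rank)) :
    Matrix.GeneralLinearGroup.map f (nProdW hW K L) = nProdW hW F L := by
  rw [nProdW, nProdW, map_list_prod, List.map_map]
  congr 1
  exact List.map_congr_left fun i _ => nR_map hW f i

theorem map_mem_group (hD : Good D) {g : GL D.Idx K} (hg : g ∈ D.group K) :
    Matrix.GeneralLinearGroup.map f g ∈ D.group F := by
  have : D.group K ≤ (D.group F).comap (Matrix.GeneralLinearGroup.map f) := by
    conv_lhs => rw [group_eq_closure hD]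
    rw [Subgroup.closure_le]
    rintro _ ⟨r, t, rfl⟩
    simp only [SetLike.mem_coe, Subgroup.mem_comap, X_map]
    exact X_mem_group hD r _
  exact this hg

end Map

section Members

variable {F : Type*} [Field F]

theorem uGe_le_group (hD : Good D) (b : Bool) (m : ℕ) : uGe hD F b m ≤ D.group F := by
  rw [uGe, Subgroup.closure_le]
  rintro _ ⟨r, -, -, t, rfl⟩
  exact X_mem_group hD r t

theorem diag_le_group (hW : GoodWeyl D) : D.diagonalSubgroup F ≤ D.group F := by
  rw [diagonalSubgroup_eq hW, Subgroup.closure_le]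
  rintro _ ⟨r, t, rfl⟩
  rw [← hElt_eq hW r t]
  simp only [nElt]
  exact mul_mem (mul_mem (mul_mem (X_mem_group _ _ _) (X_mem_group _ _ _)) (X_mem_group _ _ _))
    (mul_mem (mul_mem (X_mem_group _ _ _) (X_mem_group _ _ _)) (X_mem_group _ _ _))

theorem nProdW_mem_group (hW : GoodWeyl D) (L : List (Fin D.rank)) :
    nProdW hW F L ∈ D.group F := by
  refine Subgroup.list_prod_mem _ fun x hx => ?_
  obtain ⟨i, -, rfl⟩ := List.mem_map.1 hx
  exact mul_mem (mul_mem (X_mem_group _ _ _) (X_mem_group _ _ _)) (X_mem_group _ _ _)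

theorem torC_inj (hW : GoodWeyl D) {B : Fin D.rank → Fin D.rank → ℤ}
    (hB : ∀ k l : Fin D.rank, ∑ j : Fin D.rank, D.cartan k (D.simple j) * B j l = if k = l then 1 else 0)
    {c d : Fin D.rank → Fˣ} (h : torC D c = torC D d) : c = d := by
  have hc : ∀ (c : Fin D.rank → Fˣ) l,
      c l = ∏ j : Fin D.rank, (∏ k : Fin D.rank, c k ^ D.cartan k (pRoot hW j)) ^ B j l := by
    intro c l
    have hex : ∀ (k : Fin D.rank) (S : Finset (Fin D.rank)) (e : Fin D.rank → ℤ),
        c k ^ (∑ j ∈ S, e j) = ∏ j ∈ S, c k ^ e j := by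
      intro k S e
      induction S using Finset.induction_on with
      | empty => simp
      | insert j S hj ih => rw [Finset.sum_insert hj, Finset.prod_insert hj, zpow_add, ih]
    calc c l = ∏ k : Fin D.rank, c k ^ (if k = l then (1 : ℤ) else 0) := by
          rw [Finset.prod_eq_single l (fun k _ hk => by simp [hk]) (by simp)]; simp
      _ = ∏ k : Fin D.rank, ∏ j : Fin D.rank, (c k ^ D.cartan k (pRoot hW j)) ^ B j l := by
          refine Finset.prod_congr rfl fun k _ => ?_
          rw [← hB k l, hex]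
          exact Finset.prod_congr rfl fun j _ => (zpow_mul _ _ _)
      _ = _ := by
          rw [Finset.prod_comm]
          exact Finset.prod_congr rfl fun j _ => (Finset.prod_zpow _ _ _)
  funext l
  rw [hc c l, hc d l]
  refine Finset.prod_congr rfl fun j _ => ?_
  rw [show (∏ k : Fin D.rank, c k ^ D.cartan k (pRoot hW j)) =
    ∏ k : Fin D.rank, d k ^ D.cartan k (pRoot hW j) from congrFun (tor_injective h) (pRoot hW j)]

end Members

/-- The fixed points of a field automorphism of prime order form the group over the fixed field. -/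
theorem fixed_points (hW : GoodWeyl D) {B : Fin D.rank → Fin D.rank → ℤ}
    (hB : ∀ k l : Fin D.rank, ∑ j : Fin D.rank, D.cartan k (D.simple j) * B j l = if k = l then 1 else 0)
    {F : Type*} [Field F] [Fintype F] (φ : MulAut ↥(D.group F)) (hφ : D.IsFieldAut φ) (r : ℕ)
    (ho : orderOf φ = r) :
    ∃ (F₀ : Type) (_ : Field F₀) (_ : Fintype F₀), Fintype.card F = Fintype.card F₀ ^ r ∧
      Nonempty (↥((MulEquiv.toMonoidHom φ).eqLocus (MonoidHom.id ↥(D.group F))) ≃* ↥(D.group F₀)) := by
  obtain ⟨σ, hσ⟩ := hφ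
  have hD := hW.good
  let mσ : ∀ τ : F ≃+* F, GL D.Idx F →* GL D.Idx F := fun τ =>
    Matrix.GeneralLinearGroup.map (τ : F →+* F)
  have hval : ∀ g : D.group F, (φ g : GL D.Idx F) = mσ σ g := by
    intro g
    have hle : D.group F ≤ ((((D.group F).subtype.comp φ.toMonoidHom).eqLocus
        ((mσ σ).comp (D.group F).subtype)).map (D.group F).subtype) := by
      conv_lhs => rw [group_eq_closure hD]
      rw [Subgroup.closure_le]
      rintro _ ⟨s, t, rfl⟩
      refine ⟨⟨X hD s t, X_mem_group hD s t⟩, ?_, rfl⟩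
      show (φ _ : GL D.Idx F) = mσ σ (X hD s t)
      refine Units.ext ?_
      rw [hσ _ s t s.isLt (x_eq_xR hD F s t).symm, x_eq_xR hD F s]
      show _ = ((Matrix.GeneralLinearGroup.map (σ : F →+* F) (X hD s t) : GL D.Idx F) :
        Matrix D.Idx D.Idx F)
      rw [X_map]
      rfl
    obtain ⟨g', hg', e⟩ := hle g.2
    obtain rfl : g' = g := Subtype.ext e
    exact hg'
  have hpow : ∀ (n : ℕ) (g : D.group F), ((φ ^ n) g : GL D.Idx F) = mσ (σ ^ n) g := by
    intro n
    induction n with
    | zero =>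
      intro g
      refine Units.ext (Matrix.ext fun a c => ?_)
      show _ = (1 : F ≃+* F) _
      rfl
    | succ n ih =>
      intro g
      rw [pow_succ', pow_succ', MulAut.mul_apply, hval, ih]
      refine Units.ext (Matrix.ext fun a c => ?_)
      rfl
  have hone : ∀ n : ℕ, φ ^ n = 1 ↔ σ ^ n = 1 := by
    intro n
    constructor
    · intro h
      refine RingEquiv.ext fun t => ?_
      let r₀ : Root D := pRoot hW ⟨0, hD.rank_pos⟩
      have := hpow n ⟨X hD r₀ t, X_mem_group hD r₀ t⟩
      rw [h] at this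
      simp only [MulAut.one_apply, mσ, X_map] at this
      exact (X_injective hD r₀ this).symm
    · intro h
      refine MulEquiv.ext fun g => Subtype.ext ?_
      rw [hpow, h]
      exact Units.ext (Matrix.ext fun a c => rfl)
  have hord : orderOf σ = r := by
    rw [← ho]
    exact (orderOf_eq_orderOf_iff.2 hone).symm
  let K₀ := FixedField.fixedSub σ
  haveI : Finite K₀ := Subtype.finite
  haveI : Small.{0} K₀ := Countable.toSmall _
  let eS : K₀ ≃ Shrink.{0} K₀ := equivShrink K₀
  letI : Field (Shrink.{0} K₀) := eS.symm.field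
  haveI : Finite (Shrink.{0} K₀) := Finite.of_equiv _ eS
  letI : Fintype (Shrink.{0} K₀) := Fintype.ofFinite _
  let e : Shrink.{0} K₀ ≃+* K₀ := eS.symm.ringEquiv
  let f : Shrink.{0} K₀ →+* F := K₀.subtype.comp e.toRingHom
  refine ⟨Shrink.{0} K₀, inferInstance, inferInstance, ?_, ?_⟩
  · rw [FixedField.card_pow σ hord, ← Nat.card_eq_fintype_card (α := Shrink.{0} K₀),
      Nat.card_congr eS]
  have hfσ : ∀ x, σ (f x) = f x := fun x => (e x).2
  have hfsurj : ∀ x : F, σ x = x → ∃ y, f y = x := fun x hx =>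
    ⟨e.symm ⟨x, hx⟩, by show ((e (e.symm _) : K₀) : F) = x; rw [e.apply_symm_apply]⟩
  let E := (MulEquiv.toMonoidHom φ).eqLocus (MonoidHom.id ↥(D.group F))
  let Ψ : D.group (Shrink.{0} K₀) →* E :=
    { toFun := fun g => ⟨⟨Matrix.GeneralLinearGroup.map f g.1, map_mem_group f hD g.2⟩, by
        show φ _ = _
        refine Subtype.ext ((hval _).trans ?_)
        exact Units.ext (Matrix.ext fun a c => hfσ _)⟩
      map_one' := Subtype.ext (Subtype.ext (map_one _))
      map_mul' := fun a c => Subtype.ext (Subtype.ext (map_mul _ _ _)) }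
  refine ⟨(MulEquiv.ofBijective Ψ ⟨fun a c h => ?_, fun g => ?_⟩).symm⟩
  · exact Subtype.ext (map_injective_GL f.injective (congrArg (fun x : E => x.1.1) h))
  · obtain ⟨⟨g, hg⟩, hgE⟩ := g
    have hfix : mσ σ g = g :=
      (hval ⟨g, hg⟩).symm.trans (congrArg Subtype.val hgE)
    obtain ⟨L, v, hv, h, hh, u, hu, rfl⟩ := inCell_of_mem hW hg
    simp only [mσ, map_mul, map_nProdW, mul_assoc] at hfix
    rw [mul_left_cancel_iff, ← mul_assoc, ← mul_assoc] at hfix
    rw [diagonalSubgroup_eq_range hW] at hh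
    obtain ⟨c, rfl⟩ := hh
    change _ * Matrix.GeneralLinearGroup.map (σ : F →+* F) (torC D c) * _ = v * torC D c * u at hfix
    rw [map_torC] at hfix
    have hdiag : ∀ c : Fin D.rank → Fˣ, torC D c ∈ D.diagonalSubgroup F := fun c => by
      rw [diagonalSubgroup_eq_range hW]; exact ⟨c, rfl⟩
    obtain ⟨ev, eh, eu⟩ := cell_unique hW (map_X_mem _ hD hv) hv (hdiag _) (hdiag c)
      (map_X_mem _ hD hu) hu hfix
    have huni : ∀ (b : Bool) (w : GL D.Idx F), w ∈ uGe hD F b (half D) →
        Matrix.GeneralLinearGroup.map (σ : F →+* F) w = w →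
        ∃ w₀ ∈ D.group (Shrink.{0} K₀), Matrix.GeneralLinearGroup.map f w₀ = w := by
      intro b w hw hwσ
      have hh := hD.two_half
      obtain ⟨t, rfl⟩ := exists_prodFrom hW.toGoodComm (half D) (half D) le_rfl (by omega) w hw
      rw [map_prodFrom] at hwσ
      have ht := prodFrom_injective hW.toGoodUni (half D) (half D) le_rfl (by omega) _ _ hwσ
      classical
      let t₀ : ℕ → Shrink.{0} K₀ := fun j => if hj : σ (t j) = t j then (hfsurj _ hj).choose else 0
      refine ⟨prodFrom hD b t₀ (half D) (half D),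
        uGe_le_group hD b _ (prodFrom_mem hD t₀ le_rfl (by omega)), ?_⟩
      rw [map_prodFrom]
      refine prodFrom_congr hD fun j hj hj' => ?_
      have hj2 : σ (t j) = t j := ht j hj hj'
      simp only [t₀, dif_pos hj2]
      exact (hfsurj _ hj2).choose_spec
    obtain ⟨v₀, hv₀, rfl⟩ := huni true v hv ev
    obtain ⟨u₀, hu₀, rfl⟩ := huni false u hu eu
    have hcσ := torC_inj hW hB eh
    have hcf : ∀ k, ∃ d : (Shrink.{0} K₀)ˣ, Units.map f.toMonoidHom d = c k := by
      intro k
      obtain ⟨y, hy⟩ := hfsurj (c k : F) (congrArg Units.val (congrFun hcσ k))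
      have hy0 : y ≠ 0 := fun h => (c k).ne_zero (by rw [← hy, h, map_zero])
      exact ⟨Units.mk0 y hy0, Units.ext hy⟩
    choose c₀ hc₀ using hcf
    refine ⟨⟨nProdW hW _ L * v₀ * torC D c₀ * u₀, mul_mem (mul_mem (mul_mem
      (nProdW_mem_group hW L) hv₀) (diag_le_group hW ?_)) hu₀⟩, Subtype.ext (Subtype.ext ?_)⟩
    · rw [diagonalSubgroup_eq_range hW]; exact ⟨c₀, rfl⟩
    · show Matrix.GeneralLinearGroup.map f _ = _
      simp only [map_mul, map_nProdW, map_torC, hc₀]
      rfl

end CfsgLib.ChevFieldAut
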