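import Cfsg.Agent.ChevFieldAut.Basic

/-!
The translates of the big cell cover the group; uniqueness in the big cell.
-/

set_option autoImplicit false

namespace CfsgLib.ChevFieldAut

open Cfsg.Lie CfsgLib.Chevalley
open scoped MatrixGroups

variable {D : ChevalleyDatum} {F : Type*} [Field F]

/-- The product of a word in the `n_p`. -/
def nProdW (hW : GoodWeyl D) (F : Type*) [Field F] (L : List (Fin D.rank)) : GL D.Idx F :=
  (L.map fun i => (nR hW i : GL D.Idx F)).prod

/-- `g` lies in a translate of the big cell. -/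
def InCell (hW : GoodWeyl D) (g : GL D.Idx F) : Prop :=
  ∃ L : List (Fin D.rank), ∃ v ∈ uGe hW.good F true (half D), ∃ h ∈ D.diagonalSubgroup F,
    ∃ u ∈ uGe hW.good F false (half D), g = nProdW hW F L * v * h * u

theorem mul_right_posSimple (hW : GoodWeyl D) (i : Fin D.rank) (t : F) {g : GL D.Idx F}
    (hg : InCell hW g) : InCell hW (g * X hW.good (pRoot hW i) t) := by
  obtain ⟨L, v, hv, h, hh, u, hu, rfl⟩ := hg
  exact ⟨L, v, hv, h, hh, _, mul_mem hu (X_mem_uGe _ (half_le_key_sRoot hW false i)
    (half_le_key_sRoot hW false i) t), by simp [mul_assoc, sRoot]⟩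

theorem mul_right_negSimple (hW : GoodWeyl D) (i : Fin D.rank) (t : F) {g : GL D.Idx F}
    (hg : InCell hW g) : InCell hW (g * X hW.good (pRoot hW i).rev t) := by
  obtain ⟨L, v, hv, h, hh, u, hu, rfl⟩ := hg
  obtain ⟨u', hu', s, rfl⟩ := exists_uMinus_mul hW (b := false) (i := i) hu
  have hxU : ∀ c : F, X hW.good (pRoot hW i) c ∈ uGe hW.good F false (half D) := fun c =>
    X_mem_uGe _ (half_le_key_sRoot hW false i) (half_le_key_sRoot hW false i) c
  have hyV : ∀ c : F, X hW.good (pRoot hW i).rev c ∈ uGe hW.good F true (half D) := fun c =>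
    X_mem_uGe _ (half_le_key_sRoot hW true i) (half_le_key_sRoot hW true i) c
  obtain ⟨k, hk, a, c, e | e⟩ := rankOne hW i s t
  · -- `u' x y = u' y' k x'`
    obtain ⟨χ, hχ⟩ := diag_mul_X hW hh (pRoot hW i).rev
    have hu'' : (X hW.good (pRoot hW i).rev a)⁻¹ * u' * X hW.good (pRoot hW i).rev a ∈
        uMinus hW F false i := by
      have := opp_conj_uMinus hW (-a) hu'
      rwa [← X_inv, inv_inv] at this
    have hu3 : k⁻¹ * ((X hW.good (pRoot hW i).rev a)⁻¹ * u' * X hW.good (pRoot hW i).rev a) * k ∈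
        uMinus hW F false i := by
      have := diag_conj_uMinus hW (inv_mem hk) hu''
      rwa [inv_inv] at this
    refine ⟨L, v * X hW.good (pRoot hW i).rev ((χ : F) * a), mul_mem hv (hyV _), h * k,
      mul_mem hh hk, k⁻¹ * ((X hW.good (pRoot hW i).rev a)⁻¹ * u' * X hW.good (pRoot hW i).rev a) * k
        * X hW.good (pRoot hW i) c, mul_mem (uMinus_le hW _ _ hu3) (hxU c), ?_⟩
    show _ * v * h * (u' * X hW.good (pRoot hW i) s) * _ = _
    calc nProdW hW F L * v * h * (u' * X hW.good (pRoot hW i) s) * X hW.good (pRoot hW i).rev t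
        = nProdW hW F L * v * h * u' * (X hW.good (pRoot hW i).rev a * k * X hW.good (pRoot hW i) c) := by
          rw [← e]; group
      _ = nProdW hW F L * v * (h * X hW.good (pRoot hW i).rev a) *
            ((X hW.good (pRoot hW i).rev a)⁻¹ * u' * X hW.good (pRoot hW i).rev a) * k *
            X hW.good (pRoot hW i) c := by group
      _ = _ := by rw [hχ a]; group
  · -- `u' x y = u' k n x'`
    have hu2 : k⁻¹ * u' * k ∈ uMinus hW F false i := by
      have := diag_conj_uMinus hW (inv_mem hk) hu'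
      rwa [inv_inv] at this
    obtain ⟨u3, hu3, e3⟩ := uMinus_mul_nR hW hu2
    obtain ⟨H', hH', eH⟩ := diag_mul_nR hW i (mul_mem hh hk)
    obtain ⟨v', hv', q, rfl⟩ := exists_uMinus_mul hW (b := true) (i := i) hv
    obtain ⟨v'', hv'', ev⟩ := uMinus_mul_nR hW hv'
    obtain ⟨q', eq'⟩ := X_mul_nR_mem hW i (pRoot hW i).rev q
    rw [hW.wPerm_rev, hW.wPerm_pRoot, Fin.rev_rev] at eq'
    obtain ⟨χ, hχ⟩ := diag_mul_X hW (inv_mem hH') (pRoot hW i)
    refine ⟨L ++ [i], v'', uMinus_le hW _ _ hv'', H', hH',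
      X hW.good (pRoot hW i) ((χ : F) * q') * u3 * X hW.good (pRoot hW i) c,
      mul_mem (mul_mem (hxU _) (uMinus_le hW _ _ hu3)) (hxU c), ?_⟩
    show _ * (v' * X hW.good (pRoot hW i).rev q) * h * (u' * X hW.good (pRoot hW i) s) * _ = _
    calc nProdW hW F L * (v' * X hW.good (pRoot hW i).rev q) * h * (u' * X hW.good (pRoot hW i) s) *
          X hW.good (pRoot hW i).rev t
        = nProdW hW F L * (v' * X hW.good (pRoot hW i).rev q) * h * u' *
            (k * nR hW i * X hW.good (pRoot hW i) c) := by rw [← e]; group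
      _ = nProdW hW F L * (v' * X hW.good (pRoot hW i).rev q) * (h * k) *
            ((k⁻¹ * u' * k) * nR hW i) * X hW.good (pRoot hW i) c := by group
      _ = nProdW hW F L * (v' * X hW.good (pRoot hW i).rev q) * ((h * k) * nR hW i) * u3 *
            X hW.good (pRoot hW i) c := by rw [e3]; group
      _ = nProdW hW F L * v' * (X hW.good (pRoot hW i).rev q * nR hW i) * H' * u3 *
            X hW.good (pRoot hW i) c := by rw [eH]; group
      _ = nProdW hW F L * (v' * nR hW i) * X hW.good (pRoot hW i) q' * H' * u3 *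
            X hW.good (pRoot hW i) c := by rw [eq']; group
      _ = nProdW hW F L * nR hW i * v'' * H' * (H'⁻¹ * X hW.good (pRoot hW i) q') * H' * u3 *
            X hW.good (pRoot hW i) c := by rw [ev]; group
      _ = _ := by
        rw [hχ q', nProdW, nProdW, List.map_append, List.prod_append]
        simp [mul_assoc]

/-- The root elements of the fundamental roots and their negatives generate. -/
theorem group_le_closure_simple (hW : GoodWeyl D) :
    D.group F ≤ Subgroup.closure
      {g | ∃ (i : Fin D.rank) (b : Bool) (t : F), X hW.good (sRoot hW b i) t = g} := by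
  set K := Subgroup.closure
    {g | ∃ (i : Fin D.rank) (b : Bool) (t : F), X hW.good (sRoot hW b i) t = g}
  have hX : ∀ (i : Fin D.rank) (b : Bool) (t : F), X hW.good (sRoot hW b i) t ∈ K := fun i b t =>
    Subgroup.subset_closure ⟨i, b, t, rfl⟩
  have hn : ∀ i, (nR hW i : GL D.Idx F) ∈ K := fun i =>
    mul_mem (mul_mem (hX i false 1) (hX i true (-1))) (hX i false 1)
  rw [group_eq_closure hW.good, Subgroup.closure_le]
  rintro _ ⟨r, t, rfl⟩
  revert t
  refine hW.root_induction (P := fun r => ∀ t : F, X hW.good r t ∈ K) (fun i t => hX i false t) ?_ r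
  intro i r hr t
  have e : X hW.good (wPerm hW i r) t =
      nR hW i * X hW.good r ((eta D i r : F) * t) * (nR hW i)⁻¹ := by
    rw [nR_conj, ← mul_assoc, ← Int.cast_mul, hW.eta_sq, Int.cast_one, one_mul]
  rw [e]
  exact mul_mem (mul_mem (hn i) (hr _)) (inv_mem (hn i))

/-- Every element of the Chevalley group is `n v h u`. -/
theorem inCell_of_mem (hW : GoodWeyl D) {g : GL D.Idx F} (hg : g ∈ D.group F) : InCell hW g := by
  have hg' := group_le_closure_simple hW hg
  clear hg
  induction hg' using Subgroup.closure_induction_right with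
  | one => exact ⟨[], 1, one_mem _, 1, one_mem _, 1, one_mem _, by simp [nProdW]⟩
  | mul_right x _ y hy ih =>
    obtain ⟨i, b, t, rfl⟩ := hy
    cases b
    · exact mul_right_posSimple hW i t ih
    · exact mul_right_negSimple hW i t ih
  | mul_inv_cancel x _ y hy ih =>
    obtain ⟨i, b, t, rfl⟩ := hy
    rw [X_inv]
    cases b
    · exact mul_right_posSimple hW i _ ih
    · exact mul_right_negSimple hW i _ ih

/-! ### Uniqueness -/

theorem diag_apply (hW : GoodWeyl D) {h : GL D.Idx F} (hh : h ∈ D.diagonalSubgroup F) :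
    ∃ d : D.Idx → F, (h : Matrix D.Idx D.Idx F) = Matrix.diagonal d := by
  rw [diagonalSubgroup_eq_range hW] at hh
  obtain ⟨c, rfl⟩ := hh
  exact ⟨_, coe_torC c⟩

theorem ord_le_or (hD : Good D) (a c : D.Idx) :
    ord true a ≤ ord true c ∨ ord false a ≤ ord false c := by
  have hh := hD.two_half
  rcases a with i | r
  · rcases c with j | s
    · exact Or.inl le_rfl
    · have := s.isLt
      simp [ord, key, Fin.val_rev]
      split_ifs <;> omega
  · rcases c with j | s
    · have := r.isLt
      simp [ord, key, Fin.val_rev]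
      split_ifs <;> omega
    · have := r.isLt
      have := s.isLt
      simp [ord, key, Fin.val_rev]
      split_ifs <;> omega

/-- `V H ∩ U = 1` and the like: the factors in the big cell are unique. -/
theorem cell_unique (hW : GoodWeyl D) {v v' h h' u u' : GL D.Idx F}
    (hv : v ∈ uGe hW.good F true (half D)) (hv' : v' ∈ uGe hW.good F true (half D))
    (hh : h ∈ D.diagonalSubgroup F) (hh' : h' ∈ D.diagonalSubgroup F)
    (hu : u ∈ uGe hW.good F false (half D)) (hu' : u' ∈ uGe hW.good F false (half D))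
    (e : v * h * u = v' * h' * u') : v = v' ∧ h = h' ∧ u = u' := by
  have hM : v'⁻¹ * v = h' * (u' * u⁻¹) * h⁻¹ := by
    calc v'⁻¹ * v = v'⁻¹ * (v * h * u) * u⁻¹ * h⁻¹ := by group
      _ = _ := by rw [e]; group
  have hlo := isLower_of_mem hW.good (mul_mem (inv_mem hv') hv)
  have hup := isLower_of_mem hW.good (mul_mem hu' (inv_mem hu))
  obtain ⟨d, hd⟩ := diag_apply hW hh'
  obtain ⟨d', hd'⟩ := diag_apply hW (inv_mem hh)
  have h1 : v'⁻¹ * v = 1 := by
    refine Units.ext (Matrix.ext fun a c => ?_)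
    rw [Units.val_one]
    rcases eq_or_ne a c with rfl | hac
    · rw [hlo.1, Matrix.one_apply_eq]
    · rw [Matrix.one_apply_ne hac]
      rcases ord_le_or hW.good a c with hle | hle
      · exact hlo.2 a c hac hle
      · rw [hM, Units.val_mul, Units.val_mul, hd, hd', Matrix.mul_diagonal, Matrix.diagonal_mul,
          hup.2 a c hac hle, mul_zero, zero_mul]
  have h2 : u' * u⁻¹ = h'⁻¹ * h := by
    rw [h1] at hM
    calc u' * u⁻¹ = h'⁻¹ * (h' * (u' * u⁻¹) * h⁻¹) * h := by group
      _ = _ := by rw [← hM]; group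
  obtain ⟨d'', hd''⟩ := diag_apply hW (mul_mem (inv_mem hh') hh)
  have h3 : u' * u⁻¹ = 1 := by
    refine Units.ext (Matrix.ext fun a c => ?_)
    rw [Units.val_one]
    rcases eq_or_ne a c with rfl | hac
    · rw [hup.1, Matrix.one_apply_eq]
    · rw [Matrix.one_apply_ne hac, h2, hd'', Matrix.diagonal_apply_ne _ hac]
  rw [h3, eq_comm, inv_mul_eq_one] at h2
  exact ⟨(inv_mul_eq_one.1 h1).symm, h2.symm, (mul_inv_eq_one.1 h3).symm⟩

end CfsgLib.ChevFieldAut
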