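import Cfsg.Agent.Chevalley.Torus

/-!
Conjugation of root elements by the torus, the rank one relation, and the unipotent groups attached
to a fundamental root on either side.
-/

set_option autoImplicit false

namespace CfsgLib.ChevFieldAut

open Cfsg.Lie CfsgLib.Chevalley
open scoped MatrixGroups

variable {D : ChevalleyDatum} {F : Type*} [Field F]

/-- The value at a root of the character given by `c`. -/
def chi (c : Fin D.rank → Fˣ) (r : Root D) : Fˣ := ∏ k : Fin D.rank, c k ^ D.cartan k r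

theorem coe_torC (c : Fin D.rank → Fˣ) :
    ((torC D c : GL D.Idx F) : Matrix D.Idx D.Idx F) =
      Matrix.diagonal fun a => ((∏ k : Fin D.rank, c k ^ wt D k a : Fˣ) : F) := by
  show Matrix.diagonal _ = _
  congr 1
  funext a
  rcases a with i | s <;> simp

theorem torC_mul_X (hD : Good D) (c : Fin D.rank → Fˣ) (r : Root D) (t : F) :
    torC D c * X hD r t = X hD r ((chi c r : F) * t) * torC D c := by
  apply Units.ext
  rw [Units.val_mul, Units.val_mul, coe_X, coe_X, coe_torC]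
  ext a b
  rw [Matrix.diagonal_mul, Matrix.mul_diagonal]
  simp only [xR, Matrix.sum_apply, Matrix.smul_apply, Matrix.map_apply, smul_eq_mul,
    Finset.mul_sum, Finset.sum_mul]
  refine Finset.sum_congr rfl fun n _ => ?_
  by_cases hE : E D r n a b = 0
  · simp [hE]
  · have hw : (∏ k : Fin D.rank, c k ^ wt D k a) = chi c r ^ n * ∏ k : Fin D.rank, c k ^ wt D k b := by
      rw [chi, ← Finset.prod_pow, ← Finset.prod_mul_distrib]
      refine Finset.prod_congr rfl fun k _ => ?_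
      rw [hD.wt_of_E_ne_zero r n k hE, zpow_add, mul_comm, mul_comm (n : ℤ), zpow_mul, zpow_natCast]
    rw [hw, Units.val_mul, Units.val_pow_eq_pow_val, mul_pow]
    ring

theorem hT_mul_X (hD : Good D) (r s : Root D) (t : Fˣ) (u : F) :
    hT F r t * X hD s u = X hD s (((t ^ D.pairing r s : Fˣ) : F) * u) * hT F r t := by
  rw [hT_eq_torC, torC_mul_X hD, ← hT_eq_torC]
  congr 4
  simp only [chi, pairing_eq_sum, ← zpow_mul]
  induction (Finset.univ : Finset (Fin D.rank)) using Finset.induction_on with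
  | empty => simp
  | insert k S hk ih => rw [Finset.prod_insert hk, Finset.sum_insert hk, zpow_add, ih]

theorem diag_mul_X (hW : GoodWeyl D) {h : GL D.Idx F} (hh : h ∈ D.diagonalSubgroup F) (r : Root D) :
    ∃ χ : Fˣ, ∀ t : F, h * X hW.good r t = X hW.good r ((χ : F) * t) * h := by
  rw [diagonalSubgroup_eq_range hW] at hh
  obtain ⟨c, rfl⟩ := hh
  exact ⟨chi c r, fun t => torC_mul_X hW.good c r t⟩

/-- The torus normalises every group generated by root subgroups. -/
theorem diag_conj_closure (hW : GoodWeyl D) (P : Root D → Prop) {h : GL D.Idx F}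
    (hh : h ∈ D.diagonalSubgroup F) {g : GL D.Idx F}
    (hg : g ∈ Subgroup.closure {g | ∃ r, P r ∧ ∃ t : F, X hW.good r t = g}) :
    h * g * h⁻¹ ∈ Subgroup.closure {g | ∃ r, P r ∧ ∃ t : F, X hW.good r t = g} := by
  have : Subgroup.closure {g | ∃ r, P r ∧ ∃ t : F, X hW.good r t = g} ≤
      (Subgroup.closure {g | ∃ r, P r ∧ ∃ t : F, X hW.good r t = g}).comap
        (MulAut.conj h).toMonoidHom := by
    rw [Subgroup.closure_le]
    rintro _ ⟨r, hr, t, rfl⟩
    obtain ⟨χ, hχ⟩ := diag_mul_X hW hh r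
    simp only [SetLike.mem_coe, Subgroup.mem_comap, MulEquiv.coe_toMonoidHom, MulAut.conj_apply]
    rw [hχ, mul_inv_cancel_right]
    exact Subgroup.subset_closure ⟨r, hr, _, rfl⟩
  exact this hg

theorem uGe_eq (hD : Good D) (b : Bool) (m : ℕ) :
    uGe hD F b m =
      Subgroup.closure {g | ∃ r, (half D ≤ key b r ∧ m ≤ key b r) ∧ ∃ t : F, X hD r t = g} := by
  rw [uGe]
  congr 1
  ext g
  simp only [Set.mem_ofPred_eq, and_assoc]

theorem diag_conj_uGe (hW : GoodWeyl D) {h : GL D.Idx F} (hh : h ∈ D.diagonalSubgroup F) {b : Bool}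
    {m : ℕ} {g : GL D.Idx F} (hg : g ∈ uGe hW.good F b m) :
    h * g * h⁻¹ ∈ uGe hW.good F b m := by
  rw [uGe_eq] at hg ⊢
  exact diag_conj_closure hW _ hh hg

theorem nR_mul_diag (hW : GoodWeyl D) (i : Fin D.rank) {h : GL D.Idx F}
    (hh : h ∈ D.diagonalSubgroup F) :
    nR hW i * h * (nR hW i)⁻¹ ∈ D.diagonalSubgroup F := by
  have : D.diagonalSubgroup F ≤
      (D.diagonalSubgroup F).comap (MulAut.conj (nR hW i : GL D.Idx F)).toMonoidHom := by
    conv_lhs => rw [diagonalSubgroup_eq hW]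
    rw [Subgroup.closure_le]
    rintro _ ⟨r, t, rfl⟩
    simp only [SetLike.mem_coe, Subgroup.mem_comap, MulEquiv.coe_toMonoidHom, MulAut.conj_apply]
    rw [nR_conj_hT]
    exact hT_mem_diagonal hW _ _
  exact this hh

/-- `n_p⁻¹ h n_p` is diagonal. -/
theorem diag_mul_nR (hW : GoodWeyl D) (i : Fin D.rank) {h : GL D.Idx F}
    (hh : h ∈ D.diagonalSubgroup F) :
    ∃ h' ∈ D.diagonalSubgroup F, h * nR hW i = nR hW i * h' := by
  refine ⟨(nR hW i)⁻¹ * h * nR hW i, ?_, by group⟩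
  have hn := nR_sq (F := F) hW i
  have e : (nR hW i)⁻¹ * h * nR hW i = (hT F (pRoot hW i) (-1))⁻¹ *
      (nR hW i * (h * hT F (pRoot hW i) (-1)) * (nR hW i)⁻¹) := by
    rw [← hn]; group
  rw [e]
  exact mul_mem (inv_mem (hT_mem_diagonal hW _ _))
    (nR_mul_diag hW i (mul_mem hh (hT_mem_diagonal hW _ _)))

theorem X_mul_nR (hW : GoodWeyl D) (i : Fin D.rank) (r : Root D) (t : F) :
    X hW.good r t * nR hW i =
      nR hW i * X hW.good (wPerm hW i r) ((eta D i r : F) * ((-1) ^ (D.cartan i r).natAbs * t)) := by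
  rw [nR_mul_X, hW.wPerm_wPerm]
  congr 2
  rw [← mul_assoc, ← mul_assoc, ← Int.cast_mul, mul_comm (eta D i (wPerm hW i r)),
    hW.eta_mul_wPerm]
  push_cast
  rw [← pow_add, (Even.add_self _).neg_one_pow, one_mul]

theorem X_mul_nR_mem (hW : GoodWeyl D) (i : Fin D.rank) (r : Root D) (t : F) :
    ∃ t' : F, X hW.good r t * nR hW i = nR hW i * X hW.good (wPerm hW i r) t' :=
  ⟨_, X_mul_nR hW i r t⟩

/-- The element `x_p(s) x_{-p}(t)`. -/
theorem rankOne (hW : GoodWeyl D) (i : Fin D.rank) (s t : F) :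
    ∃ h ∈ D.diagonalSubgroup F, ∃ a c : F,
      X hW.good (pRoot hW i) s * X hW.good (pRoot hW i).rev t =
          X hW.good (pRoot hW i).rev a * h * X hW.good (pRoot hW i) c ∨
      X hW.good (pRoot hW i) s * X hW.good (pRoot hW i).rev t =
          h * nR hW i * X hW.good (pRoot hW i) c := by
  by_cases ht : t = 0
  · exact ⟨1, one_mem _, 0, s, Or.inl (by simp [ht, X_zero])⟩
  have hN : ∀ a : Fˣ, X hW.good (pRoot hW i) (a : F) *
      X hW.good (pRoot hW i).rev (-(a⁻¹ : Fˣ) : F) * X hW.good (pRoot hW i) (a : F) =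
        hT F (pRoot hW i) a * nR hW i := fun a => nWord_eq hW i a
  have hnx : ∀ u : F, nR hW i * X hW.good (pRoot hW i) u = X hW.good (pRoot hW i).rev (-u) * nR hW i := by
    intro u
    rw [nR_mul_X, hW.wPerm_pRoot, hW.eta_pRoot]; simp
  have hny : ∀ u : F, nR hW i * X hW.good (pRoot hW i).rev u = X hW.good (pRoot hW i) (-u) * nR hW i := by
    intro u
    rw [nR_mul_X, hW.wPerm_rev, hW.wPerm_pRoot, Fin.rev_rev, hW.eta_rev, hW.eta_pRoot]; simp
  have hpair : D.pairing (pRoot hW i) (pRoot hW i) = 2 := by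
    rw [hW.pairing_pRoot]; exact hW.good.cartan_simple_self i.isLt
  have hpair' : D.pairing (pRoot hW i) (pRoot hW i).rev = -2 := by
    rw [hW.pairing_pRoot, hW.good.cartan_rev, ← hW.pairing_pRoot, hpair]
  -- the same element written with `x_{-p}` outside
  have hN' : ∀ a : Fˣ, X hW.good (pRoot hW i).rev (-(a⁻¹ : Fˣ) : F) * X hW.good (pRoot hW i) (a : F) *
      X hW.good (pRoot hW i).rev (-(a⁻¹ : Fˣ) : F) = hT F (pRoot hW i) a * nR hW i := by
    intro a
    generalize hM : hT F (pRoot hW i) a * nR hW i = M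
    have e1 : M * X hW.good (pRoot hW i) (a : F) = X hW.good (pRoot hW i).rev (-(a⁻¹ : Fˣ) : F) * M := by
      rw [← hM, mul_assoc, hnx, ← mul_assoc, hT_mul_X, hpair', mul_assoc]
      congr 3
      simp [zpow_ofNat]
      field_simp
    have e2 : M * X hW.good (pRoot hW i).rev (-(a⁻¹ : Fˣ) : F) = X hW.good (pRoot hW i) (a : F) * M := by
      rw [← hM, mul_assoc, hny, ← mul_assoc, hT_mul_X, hpair, mul_assoc]
      congr 3
      simp [zpow_ofNat]
      field_simp
    have hN := (hN a).trans hM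
    have hMM : M * M = X hW.good (pRoot hW i).rev (-(a⁻¹ : Fˣ) : F) * X hW.good (pRoot hW i) (a : F) *
        X hW.good (pRoot hW i).rev (-(a⁻¹ : Fˣ) : F) * M := by
      calc M * M = M * (X hW.good (pRoot hW i) (a : F) *
            X hW.good (pRoot hW i).rev (-(a⁻¹ : Fˣ) : F) * X hW.good (pRoot hW i) (a : F)) := by rw [hN]
        _ = _ := by rw [← mul_assoc, ← mul_assoc, e1, mul_assoc _ M, e2, mul_assoc, mul_assoc, e1,
                      ← mul_assoc, ← mul_assoc]
    exact (mul_right_cancel hMM).symm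
  let a : Fˣ := -(Units.mk0 t ht)⁻¹
  have hat : (-(a⁻¹ : Fˣ) : F) = t := by simp [a]
  have hy : X hW.good (pRoot hW i).rev t =
      X hW.good (pRoot hW i) (-(a : F)) * (hT F (pRoot hW i) a * nR hW i) *
        X hW.good (pRoot hW i) (-(a : F)) := by
    rw [← hN a, hat, ← X_inv]; group
  rw [hy, ← mul_assoc, ← mul_assoc, ← mul_assoc, X_mul]
  by_cases hc : s + -(a : F) = 0
  · exact ⟨_, hT_mem_diagonal hW (pRoot hW i) a, 0, -(a : F), Or.inr (by rw [hc, X_zero, one_mul])⟩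
  let c : Fˣ := Units.mk0 _ hc
  have hx : X hW.good (pRoot hW i) (s + -(a : F)) =
      X hW.good (pRoot hW i).rev ((c⁻¹ : Fˣ) : F) * (hT F (pRoot hW i) c * nR hW i) *
        X hW.good (pRoot hW i).rev ((c⁻¹ : Fˣ) : F) := by
    rw [← hN' c, show ((c⁻¹ : Fˣ) : F) = -(-((c⁻¹ : Fˣ) : F)) by rw [neg_neg], ← X_inv]
    simp only [neg_neg]
    rw [show (s + -(a : F)) = (c : F) from rfl]
    group
  have hyh : ∀ u : F, ∃ u', X hW.good (pRoot hW i).rev u * hT F (pRoot hW i) a =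
      hT F (pRoot hW i) a * X hW.good (pRoot hW i).rev u' := by
    intro u
    refine ⟨((a ^ (2 : ℤ) : Fˣ) : F) * u, ?_⟩
    rw [hT_mul_X, hpair', ← mul_assoc, ← Units.val_mul, ← zpow_add]
    simp
  obtain ⟨u', hu'⟩ := hyh ((c⁻¹ : Fˣ) : F)
  obtain ⟨u'', hu''⟩ := X_mul_nR_mem hW i (pRoot hW i).rev u'
  rw [hW.wPerm_rev, hW.wPerm_pRoot, Fin.rev_rev] at hu''
  refine ⟨hT F (pRoot hW i) c * (nR hW i * hT F (pRoot hW i) a * (nR hW i)⁻¹) *
    hT F (pRoot hW i) (-1), mul_mem (mul_mem (hT_mem_diagonal hW _ _)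
      (nR_mul_diag hW i (hT_mem_diagonal hW _ _))) (hT_mem_diagonal hW _ _),
    ((c⁻¹ : Fˣ) : F), u'' + -(a : F), Or.inl ?_⟩
  rw [hx, ← nR_sq, ← X_mul]
  calc X hW.good (pRoot hW i).rev ((c⁻¹ : Fˣ) : F) * (hT F (pRoot hW i) c * nR hW i) *
        X hW.good (pRoot hW i).rev ((c⁻¹ : Fˣ) : F) * hT F (pRoot hW i) a * nR hW i *
        X hW.good (pRoot hW i) (-(a : F))
      = X hW.good (pRoot hW i).rev ((c⁻¹ : Fˣ) : F) * hT F (pRoot hW i) c * nR hW i *
        (X hW.good (pRoot hW i).rev ((c⁻¹ : Fˣ) : F) * hT F (pRoot hW i) a) * nR hW i *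
        X hW.good (pRoot hW i) (-(a : F)) := by group
    _ = X hW.good (pRoot hW i).rev ((c⁻¹ : Fˣ) : F) * hT F (pRoot hW i) c * nR hW i *
        hT F (pRoot hW i) a * (X hW.good (pRoot hW i).rev u' * nR hW i) *
        X hW.good (pRoot hW i) (-(a : F)) := by rw [hu']; group
    _ = _ := by rw [hu'']; group

/-! ### The unipotent group of a side without a fundamental root -/

/-- The fundamental root on the side `b`. -/
def sRoot (hW : GoodWeyl D) (b : Bool) (i : Fin D.rank) : Root D :=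
  bif b then (pRoot hW i).rev else pRoot hW i

theorem half_le_key_sRoot (hW : GoodWeyl D) (b : Bool) (i : Fin D.rank) :
    half D ≤ key b (sRoot hW b i) := by
  cases b <;> simp [sRoot, key] <;> exact hW.good.half_le_simple i.isLt

theorem wPerm_sRoot (hW : GoodWeyl D) (b : Bool) (i : Fin D.rank) :
    wPerm hW i (sRoot hW b i) = (sRoot hW b i).rev := by
  cases b <;> simp [sRoot, hW.wPerm_pRoot, hW.wPerm_rev]

theorem wPerm_side (hW : GoodWeyl D) (b : Bool) (i : Fin D.rank) {r : Root D}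
    (hr : half D ≤ key b r) (hne : r ≠ sRoot hW b i) :
    half D ≤ key b (wPerm hW i r) ∧ wPerm hW i r ≠ sRoot hW b i := by
  cases b
  · exact hW.wPerm_pos i hr hne
  · obtain ⟨h1, h2⟩ := hW.wPerm_pos i (s := r.rev) hr
      (fun e => hne (by rw [show sRoot hW true i = (pRoot hW i).rev from rfl, ← e, Fin.rev_rev]))
    rw [hW.wPerm_rev] at h1 h2
    exact ⟨h1, fun e => h2 (by rw [e]; exact Fin.rev_rev _)⟩

/-- The group generated by the root subgroups of a side other than the `i`-th fundamental one. -/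
def uMinus (hW : GoodWeyl D) (F : Type*) [Field F] (b : Bool) (i : Fin D.rank) :
    Subgroup (GL D.Idx F) :=
  Subgroup.closure {g | ∃ r, (half D ≤ key b r ∧ r ≠ sRoot hW b i) ∧ ∃ t : F, X hW.good r t = g}

theorem uMinus_le (hW : GoodWeyl D) (b : Bool) (i : Fin D.rank) :
    uMinus hW F b i ≤ uGe hW.good F b (half D) := by
  rw [uMinus, Subgroup.closure_le]
  rintro _ ⟨r, ⟨hr, -⟩, t, rfl⟩
  exact X_mem_uGe _ hr hr t

theorem diag_conj_uMinus (hW : GoodWeyl D) {h : GL D.Idx F} (hh : h ∈ D.diagonalSubgroup F)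
    {b : Bool} {i : Fin D.rank} {g : GL D.Idx F} (hg : g ∈ uMinus hW F b i) :
    h * g * h⁻¹ ∈ uMinus hW F b i :=
  diag_conj_closure hW _ hh hg

theorem sRoot_conj_uMinus (hW : GoodWeyl D) {b : Bool} {i : Fin D.rank} (v : F) {g : GL D.Idx F}
    (hg : g ∈ uMinus hW F b i) :
    X hW.good (sRoot hW b i) v * g * (X hW.good (sRoot hW b i) v)⁻¹ ∈ uMinus hW F b i := by
  have ha := half_le_key_sRoot hW b i
  have hle : uGe hW.good F b (key b (sRoot hW b i) + 1) ≤ uMinus hW F b i := by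
    rw [uGe, Subgroup.closure_le]
    rintro _ ⟨r, hr, hr', t, rfl⟩
    exact Subgroup.subset_closure ⟨r, ⟨hr, fun e => by subst e; omega⟩, t, rfl⟩
  have : uMinus hW F b i ≤ (uMinus hW F b i).comap
      (MulAut.conj (X hW.good (sRoot hW b i) v)).toMonoidHom := by
    conv_lhs => rw [uMinus]
    rw [Subgroup.closure_le]
    rintro _ ⟨c, ⟨hc, hca⟩, w, rfl⟩
    simp only [SetLike.mem_coe, Subgroup.mem_comap, MulEquiv.coe_toMonoidHom, MulAut.conj_apply]
    rw [X_comm hW.toGoodComm c (sRoot hW b i) (Ne.symm hca)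
        (hW.good.rev_ne_of_key hc ha) w v,
      show ∀ p q W : GL D.Idx F, p * q * W * q⁻¹ = p * (q * W * q⁻¹) from fun p q W => by group]
    exact mul_mem (Subgroup.subset_closure ⟨c, ⟨hc, hca⟩, w, rfl⟩)
      (hle (conj_mem_uGe hW.toGoodComm ha v _ (commRhs_mem_uGe hW.toGoodComm hc ha (Or.inr le_rfl) w v)))
  exact this hg

theorem nR_conj_uMinus (hW : GoodWeyl D) {b : Bool} {i : Fin D.rank} {g : GL D.Idx F}
    (hg : g ∈ uMinus hW F b i) : nR hW i * g * (nR hW i)⁻¹ ∈ uMinus hW F b i := by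
  have : uMinus hW F b i ≤ (uMinus hW F b i).comap (MulAut.conj (nR hW i : GL D.Idx F)).toMonoidHom := by
    conv_lhs => rw [uMinus]
    rw [Subgroup.closure_le]
    rintro _ ⟨c, ⟨hc, hca⟩, w, rfl⟩
    simp only [SetLike.mem_coe, Subgroup.mem_comap, MulEquiv.coe_toMonoidHom, MulAut.conj_apply]
    rw [nR_conj]
    exact Subgroup.subset_closure ⟨_, wPerm_side hW b i hc hca, _, rfl⟩
  exact this hg

theorem uMinus_mul_nR (hW : GoodWeyl D) {b : Bool} {i : Fin D.rank} {g : GL D.Idx F}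
    (hg : g ∈ uMinus hW F b i) :
    ∃ g' ∈ uMinus hW F b i, g * nR hW i = nR hW i * g' := by
  induction hg using Subgroup.closure_induction'' with
  | mem x hx =>
    obtain ⟨c, ⟨hc, hca⟩, w, rfl⟩ := hx
    obtain ⟨w', hw'⟩ := X_mul_nR_mem hW i c w
    exact ⟨_, Subgroup.subset_closure ⟨_, wPerm_side hW b i hc hca, w', rfl⟩, hw'⟩
  | inv_mem x hx =>
    obtain ⟨c, ⟨hc, hca⟩, w, rfl⟩ := hx
    obtain ⟨w', hw'⟩ := X_mul_nR_mem hW i c (-w)
    exact ⟨_, Subgroup.subset_closure ⟨_, wPerm_side hW b i hc hca, w', rfl⟩, by rw [X_inv]; exact hw'⟩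
  | one => exact ⟨1, one_mem _, by simp⟩
  | mul x y _ _ hx hy =>
    obtain ⟨x', hx', ex⟩ := hx
    obtain ⟨y', hy', ey⟩ := hy
    exact ⟨x' * y', mul_mem hx' hy', by rw [mul_assoc, ey, ← mul_assoc, ex, mul_assoc]⟩

/-- The opposite fundamental root element normalises the group of the side. -/
theorem opp_conj_uMinus (hW : GoodWeyl D) {i : Fin D.rank} (v : F) {g : GL D.Idx F}
    (hg : g ∈ uMinus hW F false i) :
    X hW.good (pRoot hW i).rev v * g * (X hW.good (pRoot hW i).rev v)⁻¹ ∈ uMinus hW F false i := by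
  obtain ⟨g', hg', e⟩ := uMinus_mul_nR hW hg
  have hy : nR hW i * X hW.good (pRoot hW i) (-v) * (nR hW i)⁻¹ = X hW.good (pRoot hW i).rev v := by
    rw [nR_conj, hW.wPerm_pRoot, hW.eta_pRoot]; simp
  rw [← hy, show ∀ n x : GL D.Idx F, n * x * n⁻¹ * g * (n * x * n⁻¹)⁻¹ = n * (x * (n⁻¹ * g * n) * x⁻¹) * n⁻¹
    from fun n x => by group, mul_assoc _ g, e, inv_mul_cancel_left]
  exact nR_conj_uMinus hW (sRoot_conj_uMinus hW (b := false) _ hg')

theorem exists_uMinus_mul (hW : GoodWeyl D) {b : Bool} {i : Fin D.rank} {g : GL D.Idx F}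
    (hg : g ∈ uGe hW.good F b (half D)) :
    ∃ g' ∈ uMinus hW F b i, ∃ t : F, g = g' * X hW.good (sRoot hW b i) t := by
  induction hg using Subgroup.closure_induction_right with
  | one => exact ⟨1, one_mem _, 0, by simp [X_zero]⟩
  | mul_right x _ y hy ih =>
    obtain ⟨c, hc, -, w, rfl⟩ := hy
    obtain ⟨x', hx', t, rfl⟩ := ih
    by_cases hca : c = sRoot hW b i
    · exact ⟨x', hx', t + w, by rw [hca, mul_assoc, X_mul]⟩
    · refine ⟨x' * (X hW.good (sRoot hW b i) t * X hW.good c w * (X hW.good (sRoot hW b i) t)⁻¹),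
        mul_mem hx' (sRoot_conj_uMinus hW t (Subgroup.subset_closure ⟨c, ⟨hc, hca⟩, w, rfl⟩)), t, ?_⟩
      group
  | mul_inv_cancel x _ y hy ih =>
    obtain ⟨c, hc, -, w, rfl⟩ := hy
    obtain ⟨x', hx', t, rfl⟩ := ih
    rw [X_inv]
    by_cases hca : c = sRoot hW b i
    · exact ⟨x', hx', t + -w, by rw [hca, mul_assoc, X_mul]⟩
    · refine ⟨x' * (X hW.good (sRoot hW b i) t * X hW.good c (-w) * (X hW.good (sRoot hW b i) t)⁻¹),
        mul_mem hx' (sRoot_conj_uMinus hW t (Subgroup.subset_closure ⟨c, ⟨hc, hca⟩, _, rfl⟩)), t, ?_⟩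
      group

end CfsgLib.ChevFieldAut
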